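import Groth.Agent.H56.TorTilde.Ring
import Groth.Agent.Lib.DR.BaseChangeU
import Groth.Agent.Lib.DR.KFlat
import Groth.Agent.H56.RelPC.FibTor
import Groth.Agent.H54.PCRestrict
import Groth.Agent.Lib.WLocal.RetractLoc

/-!
Tor amplitude of `tilde` of a complex relative to the base.
-/

set_option autoImplicit false
set_option linter.style.haveILetI false

universe u

open CategoryTheory Limits AlgebraicGeometry HomologicalComplex

attribute [local instance] HasDerivedCategory.standard

namespace Groth.Agent.H56.TorTilde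

open Groth.Agent.Lib Groth.Agent.Lib.DR Groth.Agent.Lib.DR.Basic Groth.Agent.Lib.DR.FiniteComplex
  Groth.Agent.Lib.DR.PseudoCoherent Groth.Agent.Lib.DR.BaseChange
open Groth.Agent.Lib.DerivedOX Groth.Agent.Lib.Modules.StalkModule KFlatBaseChange
open Groth.Agent.Lib.BettiExact TorTensor TorPull

variable {R A : Type u} [CommRing R] [CommRing A] (φ : R →+* A)

/-- The stalk map from global functions. -/
noncomputable abbrev σ₀ (z : Spec (CommRingCat.of A)) :
    A →+* (Spec (CommRingCat.of A)).presheaf.stalk z := TildeStalk.σ (CommRingCat.of A) z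

theorem isLocalized_toStalk {R : CommRingCat.{u}} (N : ModuleCat.{u} R) (y : PrimeSpectrum.Top R) :
    IsLocalizedModule y.asIdeal.primeCompl (tilde.toStalk N y).hom :=
  inferInstance

theorem flat_σ₀ (z : Spec (CommRingCat.of A)) : (σ₀ z).Flat := by
  letI := (σ₀ z).toAlgebra
  haveI : IsLocalization.AtPrime ((Spec (CommRingCat.of A)).presheaf.stalk z) z.asIdeal :=
    StructureSheaf.IsLocalization.to_stalk (CommRingCat.of A) z
  exact IsLocalization.flat _ z.asIdeal.primeCompl

theorem isZero_of_forall' {A : CommRingCat.{u}} (H : ModuleCat.{u} A)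
    (h : ∀ z : Spec A, IsZero ((extF (TildeStalk.σ A z)).obj H)) : IsZero H := by
  haveI : Subsingleton H := by
    refine subsingleton_of_forall_eq 0 fun m => ?_
    let I : Ideal A := Ideal.torsionOf A H m
    suffices hI : I = ⊤ by
      have h1 : (1 : A) ∈ I := hI ▸ trivial
      rw [Ideal.mem_torsionOf_iff, one_smul] at h1
      exact h1
    by_contra hne
    obtain ⟨P, hP, hIP⟩ := Ideal.exists_le_maximal I hne
    let z : Spec A := ⟨P, hP.isPrime⟩
    haveI : Subsingleton ((stalkModFunctor (Spec A) z).obj (tilde H)) :=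
      ModuleCat.subsingleton_of_isZero ((h z).of_iso ((TildeStalk.tildeStalkIso A z).app H).symm)
    haveI : Subsingleton ((tilde H).presheaf.stalk z) := ‹Subsingleton ((stalkModFunctor _ z).obj (tilde H))›
    haveI : IsLocalizedModule z.asIdeal.primeCompl (tilde.toStalk H z).hom := isLocalized_toStalk H z
    obtain ⟨s, hs⟩ := (IsLocalizedModule.eq_zero_iff z.asIdeal.primeCompl (tilde.toStalk H z).hom).1
      (Subsingleton.elim ((tilde.toStalk H z).hom m) 0)
    exact s.2 (hIP ((Ideal.mem_torsionOf_iff m (s : A)).2 hs))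
  exact ModuleCat.isZero_of_subsingleton H

theorem isZero_of_forall (H : ModuleCat.{u} A)
    (h : ∀ z : Spec (CommRingCat.of A), IsZero ((extF (σ₀ z)).obj H)) : IsZero H :=
  isZero_of_forall' (A := CommRingCat.of A) H h

/-- Tor amplitude of a localization, over the local ring of the base and over the base. -/
theorem bdd_stalk_iff (z : Spec (CommRingCat.of A)) (E : DRing.Cx A) (a b : ℤ) :
    DerSch.HasTorAmplitudeAt (Spec.map (CommRingCat.ofHom φ)) a b
        (((tilde.functor (CommRingCat.of A)).mapHomologicalComplex (ComplexShape.up ℤ)).obj E) z ↔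
      Bdd (flat R) a b (DerivedCategory.Q.obj ((resC ((σ₀ z).comp φ)).obj ((extC (σ₀ z)).obj E))) := by
  let f := Spec.map (CommRingCat.ofHom φ)
  let τ : R →+* (Spec (CommRingCat.of R)).presheaf.stalk (f z) := TildeStalk.σ (CommRingCat.of R) (f z)
  let γ := (f.stalkMap z).hom
  have hsq : γ.comp τ = (σ₀ z).comp φ :=
    RingHom.ext fun r => stalkMap_toStalk_apply (CommRingCat.ofHom φ) z r
  letI := τ.toAlgebra
  haveI : IsLocalization.AtPrime ((Spec (CommRingCat.of R)).presheaf.stalk (f z)) (f z).asIdeal :=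
    StructureSheaf.IsLocalization.to_stalk (CommRingCat.of R) (f z)
  haveI : Algebra.WeaklyEtale R ((Spec (CommRingCat.of R)).presheaf.stalk (f z)) :=
    WLocal.RetractLoc.weaklyEtale_of_isLocalization _ (f z).asIdeal.primeCompl
  let W := (extC (σ₀ z)).obj E
  let eW : (stC z).obj (((tilde.functor (CommRingCat.of A)).mapHomologicalComplex (ComplexShape.up ℤ)).obj E) ≅ W :=
    (NatIso.mapHomologicalComplex (TildeStalk.tildeStalkIso (CommRingCat.of A) z).symm (ComplexShape.up ℤ)).app E
  obtain ⟨i⟩ := H54.PCRestrict.restrictD_comp τ γ (DerivedCategory.Q.obj W)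
  let eQ := ExactPush.mapQ (resF γ) W
  rw [torAmpAt_iff]
  refine Iff.trans ⟨fun h => Bdd.of_iso h (DerivedCategory.Q.mapIso ((resC γ).mapIso eW) ≪≫ eQ.symm),
      fun h => Bdd.of_iso h (DerivedCategory.Q.mapIso ((resC γ).mapIso eW) ≪≫ eQ.symm).symm⟩
    ((RelPC.WETorAmp.bdd_flat_res_iff (R := R) _ a b).symm.trans ?_)
  let j : (DRing.restrictD (algebraMap R ((Spec (CommRingCat.of R)).presheaf.stalk (f z)))).obj
      ((DRing.restrictD γ).obj (DerivedCategory.Q.obj W)) ≅
      DerivedCategory.Q.obj ((resC ((σ₀ z).comp φ)).obj W) :=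
    i.symm ≪≫ eqToIso (congrArg (fun g => (DRing.restrictD g).obj (DerivedCategory.Q.obj W)) hsq) ≪≫
      ExactPush.mapQ (resF ((σ₀ z).comp φ)) W
  exact ⟨fun h => Bdd.of_iso h j, fun h => Bdd.of_iso h j.symm⟩

/-- Tor amplitude of `tilde` relative to the base. -/
theorem hasTorAmplitude_tilde_iff [PreservesFiniteLimits (tilde.functor (CommRingCat.of A))] (M : Dual.D A)
    (F : CochainComplex (Spec (CommRingCat.of A)).Modules ℤ)
    (hF : Nonempty (DCoh.toD (Spec (CommRingCat.of A)) F ≅ (DCoh.tildeD (CommRingCat.of A)).obj M))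
    (a b : ℤ) :
    DerSch.HasTorAmplitude (Spec.map (CommRingCat.ofHom φ)) a b F ↔
      Bdd (flat R) a b ((DRing.restrictD φ).obj M) := by
  obtain ⟨eF⟩ := hF
  haveI : PreservesColimitsOfSize.{0, 0} (tilde.functor (CommRingCat.of A)) :=
    tilde.adjunction.leftAdjoint_preservesColimits
  haveI : PreservesFiniteColimits (tilde.functor (CommRingCat.of A)) :=
    PreservesColimitsOfSize.preservesFiniteColimits _
  obtain ⟨E, hEK, -, ⟨eE⟩⟩ := BaseChangeU.exists_rep M
  have hE : DRing.IsKFlat A E := KFlat.isKFlat_of_isKProjective E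
  let T := ((tilde.functor (CommRingCat.of A)).mapHomologicalComplex (ComplexShape.up ℤ)).obj E
  let eT : DCoh.toD _ F ≅ DCoh.toD _ T :=
    eF ≪≫ (DCoh.tildeD (CommRingCat.of A)).mapIso eE.symm ≪≫ ExactPush.mapQ (tilde.functor (CommRingCat.of A)) E
  let eM : DerivedCategory.Q.obj ((resC φ).obj E) ≅ (DRing.restrictD φ).obj M :=
    (ExactPush.mapQ (resF φ) E).symm ≪≫ (DRing.restrictD φ).mapIso eE
  constructor
  · intro h
    exact (bdd_of_family φ σ₀ flat_σ₀ isZero_of_forall E fun z =>
      (bdd_stalk_iff φ z E a b).1 (torAmpAt_of_iso _ z eT (h z))).of_iso eM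
  · intro h z
    exact torAmpAt_of_iso _ z eT.symm ((bdd_stalk_iff φ z E a b).2
      (bdd_res_alg φ (σ₀ z) (flat_σ₀ z) E hE (h.of_iso eM.symm)))

end Groth.Agent.H56.TorTilde
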