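import Groth.Agent.Lib.BettiExact.TorPull
import Groth.Agent.H56.RelPC.WETorAmp
import Groth.Agent.Lib.DerivedOX.TildeStalk

/-!
Tor amplitude over a base and localizations.
-/

set_option autoImplicit false
set_option linter.style.haveILetI false

universe u

open CategoryTheory Limits HomologicalComplex MonoidalCategory

attribute [local instance] HasDerivedCategory.standard

namespace Groth.Agent.H56.TorTilde

open Groth.Agent.Lib Groth.Agent.Lib.DR Groth.Agent.Lib.DR.Basic Groth.Agent.Lib.DR.FiniteComplex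
  Groth.Agent.Lib.DR.PseudoCoherent Groth.Agent.Lib.DR.BaseChange
open Groth.Agent.Lib.DerivedOX KFlatBaseChange
open Groth.Agent.Lib.BettiExact TorTensor TorPull
open Groth.Agent.Lib.DerivedOX.StalkCx (commCx)

variable {R A L : Type u} [CommRing R] [CommRing A] [CommRing L] (φ : R →+* A) (σ : A →+* L)

/-- The algebra as a complex in degree zero. -/
noncomputable abbrev algCx : DRing.Cx A := (resC σ).obj (𝟙_ (DRing.Cx L))

/-- Restricted base change as a tensor product. -/
noncomputable def algCxIso (W : DRing.Cx A) : (resC σ).obj ((extC σ).obj W) ≅ algCx σ ⊗ W :=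
  (resC σ).mapIso (λ_ ((extC σ).obj W)).symm ≪≫ projCxIso σ (𝟙_ _) W

theorem bdd_algCx (hσ : σ.Flat) : Bdd (flat A) 0 0 (DerivedCategory.Q.obj (algCx σ)) := by
  refine ⟨algCx σ, fun i hi => (resF σ).map_isZero
    (isZero_single_obj_X (ComplexShape.up ℤ) 0 (𝟙_ (ModuleCat.{u} L)) i (by omega)), fun i => ?_, ⟨Iso.refl _⟩⟩
  by_cases hi : i = 0
  · subst hi
    refine good_flat.iso ((resF σ).mapIso (singleObjXSelf (ComplexShape.up ℤ) 0 (𝟙_ (ModuleCat.{u} L)))).symm ?_
    show Module.Flat A ((resF σ).obj (ModuleCat.of L L))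
    letI := σ.toAlgebra
    haveI : Module.Flat A L := hσ
    exact Module.Flat.of_linearEquiv (FlatBC.resEquiv A L)
  · exact good_flat.zero ((resF σ).map_isZero
      (isZero_single_obj_X (ComplexShape.up ℤ) 0 (𝟙_ (ModuleCat.{u} L)) i hi))

/-- Tor amplitude over the base passes to a flat algebra over the total ring. -/
theorem bdd_res_alg (hσ : σ.Flat) (E : DRing.Cx A) (hE : DRing.IsKFlat A E) {a b : ℤ}
    (h : Bdd (flat R) a b (DerivedCategory.Q.obj ((resC φ).obj E))) :
    Bdd (flat R) a b (DerivedCategory.Q.obj ((resC (σ.comp φ)).obj ((extC σ).obj E))) := by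
  have h1 := bdd_res_tensor_of_bdd φ hE (bdd_algCx σ hσ) h
  rw [add_zero, add_zero] at h1
  exact h1.of_iso (DerivedCategory.Q.mapIso ((resC φ).mapIso (algCxIso σ E).symm ≪≫
    ((NatIso.mapHomologicalComplex (ModuleCat.restrictScalarsComp.{u} φ σ).symm (ComplexShape.up ℤ)).app _)))

/-- Exactness of a flat base change. -/
theorem exactAt_ext_of (hσ : σ.Flat) (W : DRing.Cx A) (i : ℤ) (h : (algCx σ ⊗ W).ExactAt i) :
    IsZero ((extF σ).obj (W.homology i)) := by
  haveI : PreservesFiniteLimits (extF σ) := ModuleCat.preservesFiniteLimits_extendScalars_of_flat hσ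
  haveI : PreservesColimitsOfSize.{0, 0} (extF σ) :=
    (ModuleCat.extendRestrictScalarsAdj.{u} σ).leftAdjoint_preservesColimits
  haveI : PreservesFiniteColimits (extF σ) := PreservesColimitsOfSize.preservesFiniteColimits _
  have h' : ((extC σ).obj W).ExactAt i :=
    (exactAt_resC_iff σ _ i).1 ((exactAt_congr (algCxIso σ W) i).2 h)
  exact ((exactAt_iff_isZero_homology _ _).1 h').of_iso ((W.sc i).mapHomologyIso (extF σ)).symm

variable {ι : Type*} {Lz : ι → Type u} [∀ z, CommRing (Lz z)] (σz : ∀ z, A →+* Lz z)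

/-- Tor amplitude over the base is detected on a family of flat algebras detecting zero modules. -/
theorem bdd_of_family (hflat : ∀ z, (σz z).Flat)
    (hdet : ∀ H : ModuleCat.{u} A, (∀ z, IsZero ((extF (σz z)).obj H)) → IsZero H)
    (E : DRing.Cx A) {a b : ℤ}
    (h : ∀ z, Bdd (flat R) a b (DerivedCategory.Q.obj ((resC ((σz z).comp φ)).obj ((extC (σz z)).obj E)))) :
    Bdd (flat R) a b (DerivedCategory.Q.obj ((resC φ).obj E)) := by
  have hz : ∀ z, Bdd (flat R) a b (DerivedCategory.Q.obj ((resC φ).obj (algCx (σz z) ⊗ E))) := fun z =>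
    (h z).of_iso (DerivedCategory.Q.mapIso
      ((NatIso.mapHomologicalComplex (ModuleCat.restrictScalarsComp.{u} φ (σz z)) (ComplexShape.up ℤ)).app _ ≪≫
        (resC φ).mapIso (algCxIso (σz z) E)))
  have hex : ∀ i, (i < a ∨ b < i) → ((resC φ).obj E).ExactAt i := fun i hi =>
    (exactAt_resC_iff φ E i).2 ((exactAt_iff_isZero_homology _ _).2 (hdet _ fun z =>
      exactAt_ext_of (σz z) (hflat z) E i ((exactAt_resC_iff φ _ i).1 (TorTensor.exactAt_of_bdd (hz z) i hi))))
  refine bdd_flat_of_tensor _ (fun i hi => hex i (Or.inr hi)) (fun i hi => hex i (Or.inl hi))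
    fun N N' hN' t ht i hi => ?_
  haveI := ht
  refine (exactAt_congr (projCxIso φ E N') i).1 ((exactAt_resC_iff φ _ i).2 ?_)
  refine (exactAt_iff_isZero_homology _ _).2 (hdet _ fun z => exactAt_ext_of (σz z) (hflat z) _ i ?_)
  refine (exactAt_congr (α_ (algCx (σz z)) E ((extC φ).obj N')) i).1 ?_
  exact (exactAt_resC_iff φ _ i).1 ((exactAt_congr (projCxIso φ (algCx (σz z) ⊗ E) N') i).2
    (exactAt_tensor_of_bdd (hz z) N hN' t i hi))

end Groth.Agent.H56.TorTilde
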